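import Cfsg.Agent.ODD.PS.Cor
import Cfsg.Agent.ODD.AH.Main
import Cfsg.Agent.ODD.Hk.Main
import Cfsg.Agent.GAL.Rows
import Cfsg.Agent.H362.HT.Over
import Cfsg.Agent.Characters.Central

/-!
# GAL, odd `q`: the generic lemmas for `FG` (helper2)

* `FG.of_surj`; `exists_fixed` : a character of odd degree in the principal 2-block has fixed vectors under `K U`;
* `Two2 lam`, `exists_lam2` : the weight of such a character has `2`-power order;
* `fg_of_le`; `Diag R d`, `Diag.map_eq`, `Diag.comp_eq`, `Diag.map_eq_b0`, `fg_of_diag`, `fg_of_inner`.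
-/

set_option autoImplicit false
set_option linter.unusedSectionVars false

open Cfsg

namespace Cfsg.Agent.GAL.Odd

open Cfsg.Agent.H601.K4 Cfsg.Agent.TAB.Use Cfsg.Agent.ODD.Red Cfsg.Agent.ODD Cfsg.Agent.ODD.PS
  Cfsg.Agent.Characters Cfsg.Agent.H684.OQ Cfsg.Agent.H381.OQ Cfsg.Agent.Blocks

universe u v

/-- the abstract Howlett-Kilmoyer theorem -/
theorem hMain : AH.Main := AH.main Hk.ho

section surj

variable {G : Type u} [Group G] {S : Type v} [Group S]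

theorem inB0_comp [Finite G] {f : G →* S} (hf : Function.Surjective f) {θ : S → ℂ} (h : OddIrr θ) (hb : InB0 θ) :
    InB0 (fun g => θ (f g)) := by
  have := fact2
  have : Finite S := Finite.of_surjective f hf
  obtain ⟨M, hM⟩ := Cfsg.Agent.Blocks.ExistsModular.exists_isPModular Nat.prime_two
  let P : Sylow 2 G := default
  let P' : Sylow 2 S := P.mapSurjective hf
  refine (inB0_iff P hM (oddIrr_comp hf h)).2 fun y hy ho => ?_
  have h1 := (inB0_iff P' hM h).1 hb (f y) (by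
    rw [Subgroup.mem_centralizer_iff]
    rintro _ ⟨x, hx, rfl⟩
    rw [← map_mul, ← map_mul, Subgroup.mem_centralizer_iff.1 hy x hx]) (ho.of_dvd_nat (orderOf_map_dvd f y))
  show MemLocalIdeal M (θ (f y) - θ (f 1))
  rwa [map_one]

/-- `FG` passes to quotients -/
theorem FG.of_surj [Finite G] (f : G →* S) (hf : Function.Surjective f) (h : FG G) : FG S := by
  intro χ h1 h2 σ hσ s
  obtain ⟨g, rfl⟩ := hf s
  exact h _ (oddIrr_comp hf h1) (inB0_comp hf h1 h2) σ hσ g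

theorem FG.congr [Finite G] (e : S ≃* G) (h : FG G) : FG S := FG.of_surj e.symm.toMonoidHom e.symm.surjective h

end surj

section block

variable {Y : Type} [Group Y] [Finite Y]

theorem lin_mul_eq_zero {χ : Y → ℂ} (hχ : IsIrrCharacter Y χ) {e : Al Y} (he : e * e = e) (h0 : lin χ e = 0)
    (x : Al Y) : lin χ (x * e) = 0 := by
  obtain ⟨n, ρ, h, rfl⟩ := hχ
  obtain ⟨V, r, -, h2, h3, -⟩ := AH.exists_crn ρ h he
  have h4 : Module.finrank ℂ V = 0 := by exact_mod_cast h2.trans h0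
  have : Subsingleton V := Module.finrank_zero_iff.1 h4
  rw [← h3, Subsingleton.elim (r x) 0, map_zero]

omit [Finite Y] in
theorem exists_pow_mul {K : Subgroup Y} {g k : Y} (hg : g ∈ Subgroup.normalizer (K : Set Y)) (hk : k ∈ K) (m : ℕ) :
    ∃ k' ∈ K, (g * k) ^ m = g ^ m * k' := by
  induction m with
  | zero => exact ⟨1, one_mem _, by simp⟩
  | succ m ih =>
    obtain ⟨k', hk', e⟩ := ih
    have h1 := (Subgroup.mem_normalizer_iff.1 (inv_mem hg) k').1 hk'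
    refine ⟨g⁻¹ * k' * g⁻¹⁻¹ * k, mul_mem h1 hk, ?_⟩
    rw [pow_succ, e, pow_succ]
    group

theorem odd_mul {K : Subgroup Y} (hK : ∀ k ∈ K, Odd (orderOf k)) {g k : Y}
    (hg : g ∈ Subgroup.normalizer (K : Set Y)) (hk : k ∈ K) (ho : Odd (orderOf g)) : Odd (orderOf (g * k)) := by
  obtain ⟨k', hk', e⟩ := exists_pow_mul hg hk (orderOf g)
  rw [pow_orderOf_eq_one, one_mul] at e
  refine (ho.mul (hK k' hk')).of_dvd_nat (orderOf_dvd_of_pow_eq_one ?_)
  rw [pow_mul, e, pow_orderOf_eq_one]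

/-- the sum of the elements of odd order acts by a scalar -/
theorem sum_odd_mul [Fintype Y] {χ : Y → ℂ} (hχ : IsIrrCharacter Y χ) (u : Y) :
    ∑ g : Y with ¬ 2 ∣ orderOf g, χ (g * u) = (∑ g : Y with ¬ 2 ∣ orderOf g, χ g) / χ 1 * χ u := by
  have hc : (Nat.card Y : ℂ) ≠ 0 := Core.card_ne_zero_complex
  have h1 : ∀ a : Y, ∑ g : Y with ¬ 2 ∣ orderOf g, χ (a * g * a⁻¹ * u) =
      ∑ g : Y with ¬ 2 ∣ orderOf g, χ (g * u) := fun a => by
    refine Finset.sum_equiv (MulAut.conj a).toEquiv (fun g => ?_) fun g _ => rfl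
    simp only [Finset.mem_filter, Finset.mem_univ, true_and]
    rw [show (MulAut.conj a).toEquiv g = a * g * a⁻¹ from rfl, orderOf_conj']
  refine mul_left_cancel₀ hc ?_
  calc (Nat.card Y : ℂ) * ∑ g : Y with ¬ 2 ∣ orderOf g, χ (g * u)
      = ∑ a : Y, ∑ g : Y with ¬ 2 ∣ orderOf g, χ (a * g * a⁻¹ * u) := by
        rw [Finset.sum_congr rfl fun a _ => h1 a, Finset.sum_const, Finset.card_univ, nsmul_eq_mul,
          Nat.card_eq_fintype_card]
    _ = _ := by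
        rw [Finset.sum_comm, Finset.sum_congr rfl fun g _ => Central.sum_char_conj_mul hχ g u, Finset.sum_div,
          Finset.sum_mul, Finset.mul_sum]
        exact Finset.sum_congr rfl fun g _ => by ring

/-- **Fixed vectors.**  `D` is a 2-group which normalises `U`, `K ≤ C(D)` consists of elements of odd order and is normalised
by `C(D)`, the sum of `χ` over `U` is odd: a member `χ` of the principal 2-block has fixed vectors under `K U`. -/
theorem exists_fixed {D U K : Subgroup Y} [Fintype U] [Fintype K] (hD : IsPGroup 2 D)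
    (hDU : D ≤ Subgroup.normalizer (U : Set Y)) (hK : ∀ k ∈ K, Odd (orderOf k))
    (hKD : K ≤ Subgroup.centralizer (D : Set Y))
    (hC : Subgroup.centralizer (D : Set Y) ≤ Subgroup.normalizer (K : Set Y)) {χ : Y → ℂ} (hχ : OddIrr χ) (hb : InB0 χ)
    {z : ℂ} (hz : IsIntegral ℤ z) (h1 : ∑ u : U, χ u = χ 1 + 2 * z) : ∃ g : Y, ∑ k : K, ∑ u : U, χ (g * k * u) ≠ 0 := by
  classical
  have := fact2
  have : Fintype Y := Fintype.ofFinite Y
  by_contra hcon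
  push Not at hcon
  obtain ⟨M, hM⟩ := Cfsg.Agent.Blocks.ExistsModular.exists_isPModular Nat.prime_two
  have hint : ∀ y, IsIntegral ℤ (χ y) := fun y => CharactersDeep.ModCongr.isIntegral_irr hχ.1 y
  have hcl := Core.isIrr_isClassFunction hχ.1
  let Φ : Y → AlgInt := fun g => ∑ u : U, ⟨χ (g * u), hint _⟩
  have hΦ : ∀ g, (Φ g : ℂ) = ∑ u : U, χ (g * u) := fun g => by
    simp only [Φ]
    push_cast
    rfl
  let f : Y → AlgInt := fun g => if ¬ 2 ∣ orderOf g then Φ g else 0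
  obtain ⟨a, ha⟩ := OrbitSum.sum_eq_sum_centralizer_add_smul (p := 2) D hD f (by
    intro t ht x
    simp only [f, orderOf_conj']
    congr 1
    apply Subtype.ext
    rw [hΦ, hΦ]
    have hm : ∀ u : U, t⁻¹ * u * t⁻¹⁻¹ ∈ U := fun u => (Subgroup.mem_normalizer_iff.1 (inv_mem (hDU ht)) u).1 u.2
    have hm' : ∀ u : U, t * u * t⁻¹ ∈ U := fun u => (Subgroup.mem_normalizer_iff.1 (hDU ht) u).1 u.2
    let φ : U ≃ U :=
      { toFun := fun u => ⟨_, hm u⟩
        invFun := fun u => ⟨_, hm' u⟩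
        left_inv := fun u => Subtype.ext (by simp only; group)
        right_inv := fun u => Subtype.ext (by simp only; group) }
    refine Fintype.sum_equiv φ _ _ fun u => ?_
    have e : t * x * t⁻¹ * u = t * (x * (t⁻¹ * u * t⁻¹⁻¹)) * t⁻¹ := by group
    rw [e, hcl]
    rfl)
  set C := Finset.univ.filter (· ∈ Subgroup.centralizer (D : Set Y)) with hCd
  have h2 : ∀ k : K, ∑ x ∈ C, f x = ∑ x ∈ C, if ¬ 2 ∣ orderOf x then Φ (x * k) else 0 := fun k => by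
    refine (Finset.sum_equiv (Equiv.mulRight (k : Y)) (fun x => ?_) fun x hx => ?_).symm
    · simp only [hCd, Finset.mem_filter, Finset.mem_univ, true_and, Equiv.coe_mulRight]
      exact (Subgroup.mul_mem_cancel_right _ (hKD k.2)).symm
    · have hx' := hC (Finset.mem_filter.1 hx).2
      have h3 : ¬ 2 ∣ orderOf x ↔ ¬ 2 ∣ orderOf (x * k) := by
        rw [← odd_iff', ← odd_iff']
        refine ⟨odd_mul hK hx' k.2, fun h4 => ?_⟩
        have h5 := odd_mul hK (mul_mem hx' (Subgroup.le_normalizer k.2)) (inv_mem k.2) h4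
        rwa [mul_inv_cancel_right] at h5
      simp only [f, Equiv.coe_mulRight, h3]
  have h3 : ((∑ x ∈ C, f x : AlgInt) : ℂ) = 0 := by
    refine mul_left_cancel₀ (card_ne K) ?_
    rw [mul_zero, Nat.card_eq_fintype_card, ← nsmul_eq_mul, ← Finset.card_univ, ← Finset.sum_const,
      Finset.sum_congr rfl fun k _ => congrArg (fun y : AlgInt => (y : ℂ)) (h2 k)]
    push_cast
    rw [Finset.sum_comm]
    refine Finset.sum_eq_zero fun x _ => ?_
    split_ifs with hx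
    · simp
    · simp only [hΦ]
      exact hcon x
  have h4 : ((∑ x, f x : AlgInt) : ℂ) = (∑ g : Y with ¬ 2 ∣ orderOf g, χ g) / χ 1 * (χ 1 + 2 * z) := by
    simp only [f]
    rw [← Finset.sum_filter, ← h1, Finset.mul_sum]
    push_cast
    simp only [hΦ]
    rw [Finset.sum_comm]
    exact Finset.sum_congr rfl fun u _ => sum_odd_mul hχ.1 u
  have h5 := H362.HT.ratio hM (hb M hM hχ.1)
  have h6 := congrArg (fun y : AlgInt => (y : ℂ)) ha
  simp only [h4] at h6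
  push_cast at h6 h3
  rw [h3, zero_add] at h6
  change MemLocalIdeal M ((∑ g : Y with ¬ 2 ∣ orderOf g, χ g) / χ 1 - _) at h5
  set ω := (∑ g : Y with ¬ 2 ∣ orderOf g, χ g) / χ 1
  set N := Nat.card {x : Y // ¬ 2 ∣ orderOf x}
  have h2M : MemLocalIdeal M ((2 : ℕ) : ℂ) := LocalRing.memLocalIdeal_prime hM
  have h7 : ((N * charDegree χ : ℕ) : ℂ) =
      ((2 : ℕ) : ℂ) * ((a : ℂ) - N * z) - (ω - N) * (χ 1 + 2 * z) := by
    have h8 : ω * (χ 1 + 2 * z) = 2 * (a : ℂ) := by rw [h6]; simp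
    push_cast
    rw [← Basic.irr_one_eq_charDegree hχ.1]
    linear_combination h8
  have h8 : MemLocalIdeal M ((N * charDegree χ : ℕ) : ℂ) := by
    rw [h7]
    have hzl := LocalRing.memLocalRing_of_isIntegral hM hz
    refine LocalRing.memLocalIdeal_sub hM (LocalRing.memLocalIdeal_mul_right hM h2M ?_)
      (LocalRing.memLocalIdeal_mul_right hM h5 ?_)
    · exact LocalRing.memLocalRing_sub hM (LocalRing.memLocalRing_coe hM a)
        (LocalRing.memLocalRing_mul hM (LocalRing.memLocalRing_natCast hM N) hzl)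
    · exact LocalRing.memLocalRing_add hM (LocalRing.memLocalRing_of_isIntegral hM (hint 1))
        (LocalRing.memLocalRing_mul hM (LocalRing.memLocalRing_natCast hM 2) hzl)
  rw [LocalRing.memLocalIdeal_natCast_iff hM, Nat.prime_two.dvd_mul] at h8
  exact h8.elim RegularCount.not_dvd_card_regular hχ.2

end block

open CoxeterSystem Cfsg.Agent.ChevalleyStructure.CoxeterGeom Cfsg.Agent.Tits.Roots Cfsg.Agent.Nodes.Reps
  Cfsg.Agent.Nodes.BNOf Cfsg.Agent.Nodes.Bruhat Cfsg.Agent.Nodes.OppDec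

/-- a linear character of `2`-power order -/
def Two2 {T : Type} [Group T] (lam : T →* ℂˣ) : Prop := ∃ k : ℕ, ∀ t, lam t ^ 2 ^ k = 1

theorem Two2.fix {T : Type} [Group T] {lam : T →* ℂˣ} (h : Two2 lam) {σ : ℂ ≃+* ℂ} (hσ : Sig σ) (t : T) :
    σ (lam t : ℂˣ) = (lam t : ℂˣ) := by
  obtain ⟨k, hk⟩ := h
  exact hσ.1 k _ (by rw [← Units.val_pow_eq_pow_val, hk, Units.val_one])

theorem two2_of_sq {T : Type} [Group T] {lam : T →* ℂˣ} (h : ∀ t, lam t ^ 2 = 1) : Two2 lam := ⟨1, h⟩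

theorem two2_of_odd {T : Type} [Group T] [Finite T] {lam : T →* ℂˣ} (h : ∀ t, Odd (orderOf t) → lam t = 1) :
    Two2 lam := by
  obtain ⟨k, m, hm, e⟩ := Nat.exists_eq_two_pow_mul_odd (n := Nat.card T) Nat.card_pos.ne'
  refine ⟨k, fun t => ?_⟩
  rw [← map_pow]
  refine h _ (hm.of_dvd_nat (orderOf_dvd_of_pow_eq_one ?_))
  rw [← pow_mul, ← e, pow_card_eq_one']

/-- the elements of odd order of an abelian subgroup -/
def oddT {Y : Type} [Group Y] (T : Subgroup Y) (hc : ∀ a ∈ T, ∀ b ∈ T, a * b = b * a) : Subgroup Y where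
  carrier := {t | t ∈ T ∧ Odd (orderOf t)}
  one_mem' := ⟨one_mem _, by rw [orderOf_one]; exact odd_one⟩
  mul_mem' := by
    rintro a b ⟨ha, h1⟩ ⟨hb, h2⟩
    exact ⟨mul_mem ha hb, (h1.mul h2).of_dvd_nat (Commute.orderOf_mul_dvd_mul_orderOf (hc a ha b hb))⟩
  inv_mem' := by
    rintro a ⟨ha, h1⟩
    exact ⟨inv_mem ha, by rwa [orderOf_inv]⟩

variable {I W Y : Type} [Fintype I] [DecidableEq I] [Group W] [Finite W] [Group Y] [Finite Y]
  {M : CoxeterMatrix I} {cs : CoxeterSystem M W} {A : I → I → ℤ} {h : IsCartan M A} {p : ℕ} {T : Subgroup Y}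
  {n : I → Y} {X : (I → ℤ) → Subgroup Y} (R : RGD cs h p T n X)

include R

/-- the centraliser of the 2-elements of the torus is contained in `N` -/
theorem rp_of_cent (hG : GG cs h T X = ⊤) (hnf : H69.OQ.NoFix cs h T X) {hc : ∀ a ∈ T, ∀ b ∈ T, a * b = b * a} {y : Y}
    (hy : y ∈ Subgroup.centralizer (twoT T hc : Set Y)) : ∃ w, Rp cs R.nsys w y := by
  obtain ⟨u, hu, w, k, hk, -, v, hv, e⟩ := Nodes.NormalForm.mem_centralizer R (S := (twoT T hc : Set Y))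
    (fun t ht => ht.1) (g := y) (by rw [hG]; exact Subgroup.mem_top y) hy
  rw [← Nodes.NormalForm.centralizer_U R (S := (twoT T hc : Set Y)) fun t ht => ht.1] at hu hv
  rw [fix_U R hnf hu.1 hu.2, fix_U R hnf hv.1 hv.2, one_mul, mul_one] at e
  exact ⟨w, e ▸ hk⟩

/-- the weights of the members of odd degree of the principal 2-block have `2`-power order -/
theorem two2_of_inB0 (hG : GG cs h T X = ⊤) (hc : ∀ a ∈ T, ∀ b ∈ T, a * b = b * a) (hnf : H69.OQ.NoFix cs h T X)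
    {χ : Y → ℂ} (hχ : OddIrr χ) (hb : InB0 χ) {lam : ↥T →* ℂˣ} (h0 : mB R lam χ ≠ 0) : Two2 lam := by
  classical
  refine two2_of_odd fun t₀ ht₀ => ?_
  by_contra hne
  have : Fintype ↥(UU cs h X) := Fintype.ofFinite _
  have : Fintype ↥(oddT T hc) := Fintype.ofFinite _
  let _ : CommGroup ↥T := { (inferInstance : Group ↥T) with mul_comm := fun a b => Subtype.ext (hc a a.2 b b.2) }
  have hfin : Finite (↥T →* ℂˣ) := by
    obtain ⟨e⟩ := CommGroup.monoidHom_mulEquiv_of_hasEnoughRootsOfUnity ↥T ℂ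
    exact Finite.of_equiv _ e.symm.toEquiv
  have : Fintype (↥T →* ℂˣ) := Fintype.ofFinite _
  obtain ⟨z, hz, e1⟩ := sum_U R hnf hc hχ.1 (one_mem T)
  simp only [one_mul] at e1
  obtain ⟨g, hg⟩ := exists_fixed (D := twoT T hc) (U := UU cs h X) (K := oddT T hc) isPGroup_twoT
    (fun t ht => R.T_le_normalizer_U ht.1) (fun k hk => hk.2)
    (fun k hk => Subgroup.mem_centralizer_iff.2 fun t ht => hc t ht.1 k hk.1)
    (fun y hy => by
      obtain ⟨w, hw⟩ := rp_of_cent R hG hnf hy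
      refine Subgroup.mem_normalizer_iff.2 fun k => ⟨fun hk => ⟨conj_T R hw hk.1, by rw [orderOf_conj']; exact hk.2⟩,
        fun hk => ⟨(Subgroup.mem_normalizer_iff.1 hw.mem_normalizer k).2 hk.1, ?_⟩⟩
      have h1 := hk.2
      rwa [orderOf_conj'] at h1) hχ hb hz e1
  apply hg
  have hlin : ∀ x : Y, lin χ (dl x * (av (1 : ↥(oddT T hc) →* ℂˣ) * eU cs h X)) =
      (Nat.card ↥(oddT T hc) : ℂ)⁻¹ * (Nat.card ↥(UU cs h X) : ℂ)⁻¹ *
        ∑ k : ↥(oddT T hc), ∑ u : ↥(UU cs h X), χ (x * k * u) := fun x => by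
    rw [← mul_assoc (dl x), lin_av, smul_eq_mul, mul_assoc]
    congr 1
    rw [Finset.mul_sum]
    refine Finset.sum_congr rfl fun k _ => ?_
    have e : dl x * dl (k : Y) * eU cs h X = dl x * dl (k : Y) * av (P := UU cs h X) 1 * 1 := (mul_one _).symm
    rw [e, lin_av]
    simp only [MonoidHom.one_apply, inv_one, Units.val_one, one_smul, smul_eq_mul, one_mul, mul_one, ← dl_mul, lin_dl]
  have hcomm : eU cs h X * av (1 : ↥(oddT T hc) →* ℂˣ) = av (1 : ↥(oddT T hc) →* ℂˣ) * eU cs h X := by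
    rw [av_def, mul_smul_comm, smul_mul_assoc, Finset.mul_sum, Finset.sum_mul]
    congr 1
    refine Finset.sum_congr rfl fun t _ => ?_
    rw [mul_smul_comm, smul_mul_assoc, dl_t_comm_eU R t.2.1]
  have he : av (1 : ↥(oddT T hc) →* ℂˣ) * eU cs h X * (av (1 : ↥(oddT T hc) →* ℂˣ) * eU cs h X) =
      av (1 : ↥(oddT T hc) →* ℂˣ) * eU cs h X := by
    rw [mul_assoc, ← mul_assoc (eU cs h X), hcomm, mul_assoc, eU_mul_eU, ← mul_assoc, av_mul_av]
  have h1 : ∑ k : ↥(oddT T hc), ∑ u : ↥(UU cs h X), χ (1 * k * u) = 0 := by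
    simp only [one_mul]
    rw [Finset.sum_congr rfl fun (k : ↥(oddT T hc)) _ => sum_U_eq R hc χ k.2.1, ← Finset.mul_sum, Finset.sum_comm]
    refine mul_eq_zero_of_right _ (Finset.sum_eq_zero fun μ _ => ?_)
    rw [← Finset.sum_mul]
    by_cases hμ : mB R μ χ = 0
    · rw [hμ, mul_zero]
    refine mul_eq_zero_of_left ?_ _
    obtain ⟨k, hk, hC⟩ := mB_conj R hG hχ.1 h0 hμ
    obtain ⟨w, hw⟩ := mem_NN.1 hk
    have h2 := hC t₀ t₀.2 (conj_T' R hw t₀.2)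
    have h3 : Odd (orderOf (k⁻¹ * t₀ * k)) := by
      have h4 := orderOf_conj' k⁻¹ (t₀ : Y)
      rw [inv_inv] at h4
      rwa [h4, Subgroup.orderOf_coe]
    let ν : ↥(oddT T hc) →* ℂ := (Units.coeHom ℂ).comp (μ.comp (Subgroup.inclusion fun k hk => hk.1))
    refine sum_hom_units_eq_zero ν fun h4 => hne ?_
    have h5 := DFunLike.congr_fun h4 ⟨_, conj_T' R hw t₀.2, h3⟩
    exact h2.trans (Units.val_eq_one.1 h5)
  have h2 := lin_mul_eq_zero hχ.1 he (by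
    have h3 := hlin 1
    rwa [dl_one, one_mul, h1, mul_zero] at h3) (dl g)
  rw [hlin] at h2
  exact (mul_eq_zero.1 h2).resolve_left (mul_ne_zero (inv_ne_zero (card_ne _)) (inv_ne_zero (card_ne _)))

/-- **(P1) in the principal block** -/
theorem exists_lam2 (hG : GG cs h T X = ⊤) (hc : ∀ a ∈ T, ∀ b ∈ T, a * b = b * a) (hnf : H69.OQ.NoFix cs h T X)
    {χ : Y → ℂ} (hχ : OddIrr χ) (hb : InB0 χ) :
    ∃ lam : ↥T →* ℂˣ, (∃ m : ℕ, Odd m ∧ mB R lam χ = m) ∧ Odd (Wst R lam).index ∧ Two2 lam := by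
  obtain ⟨lam, ⟨m, hm, e⟩, h2⟩ := PS.exists_lam R hG hc hnf hχ.1 (odd_iff'.2 hχ.2)
  exact ⟨lam, ⟨m, hm, e⟩, h2, two2_of_inB0 R hG hc hnf hχ hb (by rw [e]; exact_mod_cast hm.pos.ne')⟩

/-- **`FG`, if the stabilisers are generated by good reflections** -/
theorem fg_of_le (hG : GG cs h T X = ⊤) (hc : ∀ a ∈ T, ∀ b ∈ T, a * b = b * a) (hnf : H69.OQ.NoFix cs h T X)
    (H : ∀ lam : ↥T →* ℂˣ, Two2 lam → Odd (Wst R lam).index → Wst R lam ≤ Rg R lam) : FG Y := by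
  intro χ hχ hb σ hσ g
  obtain ⟨lam, h1, h2, h3⟩ := exists_lam2 R hG hc hnf hχ hb
  have h4 := H lam h3 h2
  exact (fix_of_mB R hMain hG hc (St.five cs h) (aut_refl R (h3.fix hσ)) (fun w hw => h4 (mul_mem hw hw)) (Or.inl h4)
    hχ.1 h1 g).symm

omit R in
/-- **the diagonal automorphism `ρ^∨(2)`** -/
structure Diag (R : RGD cs h p T n X) (d : Y ≃* Y) : Prop where
  fixT : ∀ t ∈ T, d t = t
  mapX : ∀ a ∈ RGD.Pos cs h, ∀ x ∈ X a, d x ∈ X a
  mapN : ∀ i, (n i)⁻¹ * d (n i) ∈ T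
  sq : ∀ i (f : ↥(X (sr i)) →* ℂˣ) x (hx : x ∈ X (sr i)) (hx' : d x ∈ X (sr i)), f ⟨d x, hx'⟩ = f ⟨x, hx⟩ ^ 2

omit R in
/-- the usual form of `Diag.sq` -/
theorem sq_of_eq {d : Y ≃* Y} {P : Subgroup Y} (f : ↥P →* ℂˣ) {x : Y} (hx : x ∈ P) (hx' : d x ∈ P) (e : d x = x * x) :
    f ⟨d x, hx'⟩ = f ⟨x, hx⟩ ^ 2 := by
  rw [pow_two, ← map_mul]
  exact congrArg f (Subtype.ext e)

omit R in
theorem sq_of_comm {d : Y ≃* Y} {P : Subgroup Y} (f : ↥P →* ℂˣ) {x : Y} (hx : x ∈ P) (hx' : d x ∈ P)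
    (e : d x * (x * x)⁻¹ ∈ ⁅P, P⁆) : f ⟨d x, hx'⟩ = f ⟨x, hx⟩ ^ 2 := by
  have h1 : ⁅P, P⁆ ≤ f.ker.map P.subtype := by
    refine Subgroup.commutator_le.2 fun a ha b hb =>
      ⟨(⟨a, ha⟩ : ↥P) * ⟨b, hb⟩ * (⟨a, ha⟩ : ↥P)⁻¹ * (⟨b, hb⟩ : ↥P)⁻¹, ?_, rfl⟩
    show f _ = 1
    rw [map_mul, map_mul, map_mul, map_inv, map_inv, mul_inv_cancel_comm, mul_inv_cancel]
  obtain ⟨y, hy, e'⟩ := h1 e
  have h2 : (⟨d x, hx'⟩ : ↥P) = y * (⟨x, hx⟩ * ⟨x, hx⟩) := Subtype.ext (by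
    show d x = (y : Y) * (x * x)
    rw [show (y : Y) = _ from e', inv_mul_cancel_right])
  rw [h2, map_mul, show f y = 1 from hy, one_mul, map_mul, pow_two]

namespace Diag

variable {R} {d : Y ≃* Y} (D : Diag R d)

include D

theorem mapSup {S : Set (I → ℤ)} (hS : ∀ a ∈ S, a ∈ RGD.Pos cs h) {u : Y} (hu : u ∈ RGD.Sup X S) :
    d u ∈ RGD.Sup X S := by
  have h1 : RGD.Sup X S ≤ (RGD.Sup X S).comap d.toMonoidHom :=
    RGD.Sup_le fun a ha x hx => RGD.le_Sup ha (D.mapX a (hS a ha) x hx)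
  exact h1 hu

theorem mapU {u : Y} (hu : u ∈ UU cs h X) : d u ∈ UU cs h X := D.mapSup (fun _ ha => ha) hu

theorem mapRp (w : W) : ∀ {g : Y}, Rp cs R.nsys w g → g⁻¹ * d g ∈ T := by
  induction w using cs.simple_induction_right with
  | one =>
    intro g hg
    rw [D.fixT g hg.mem_of_one, inv_mul_cancel]
    exact one_mem _
  | mul_simple_right w i ih =>
    intro g hg
    have hni := rp_simple cs R.nsys i
    have hk' : Rp cs R.nsys w (g * (n i)⁻¹) := by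
      have := hg.mul hni.inv
      rwa [mul_inv_cancel_right] at this
    have h1 := mul_mem (conj_T' R hni (ih hk')) (D.mapN i)
    have e : (n i)⁻¹ * ((g * (n i)⁻¹)⁻¹ * d (g * (n i)⁻¹)) * n i * ((n i)⁻¹ * d (n i)) = g⁻¹ * d g := by
      rw [map_mul, map_inv]
      group
    rwa [e] at h1

theorem aut {σ : ℂ ≃+* ℂ} {lam : ↥T →* ℂˣ} (hl : ∀ t, σ (lam t : ℂˣ) = (lam t : ℂˣ)) : Aut R σ d lam :=
  ⟨fun _ hu => D.mapU hu, fun t ht => by rwa [D.fixT t ht], fun t ht => by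
    rw [hl]
    congr 3
    exact D.fixT t ht, fun w _ hg _ => D.mapRp w hg⟩

theorem exists_psi (hp : p.Prime) : ∃ psi : ↥(UU cs h X) →* ℂˣ, Nondeg psi ∧
    ∀ u (hu : u ∈ UU cs h X), psi ⟨d u, D.mapU hu⟩ = psi ⟨u, hu⟩ ^ 2 := by
  classical
  have : Fact p.Prime := ⟨hp⟩
  choose π hπ1 hπ2 using exists_projX R
  have h1 : ∀ i : I, ∃ f : ↥(X (sr i)) →* ℂˣ, f ≠ 1 := by
    intro i
    obtain ⟨u, hu, hu1⟩ := exists_ne_one R i
    have : Nontrivial ↥(X (sr i)) := ⟨⟨⟨u, hu⟩, 1, fun h2 => hu1 (congrArg Subtype.val h2)⟩⟩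
    exact H684.OQ.exists_lin (R.pgrp' (isRoot_sr cs h i))
  choose F hF using h1
  refine ⟨∏ j, (F j).comp (π j), fun i => ?_, fun u hu => ?_⟩
  · by_contra hcon
    push Not at hcon
    refine hF i (MonoidHom.ext fun x => ?_)
    have h2 := hcon x x.2
    rw [MonoidHom.finsetProd_apply, Finset.prod_eq_single i, MonoidHom.comp_apply, hπ1 i x x.2] at h2
    · exact h2
    · intro j _ hj
      rw [MonoidHom.comp_apply, hπ2 j x (RGD.le_Sup (S := RGD.PosNe cs h j)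
        ⟨isRoot_sr cs h i, sr_nonneg i, fun he => by
          have h3 := congrFun he i
          rw [sr_self, sr_ne (Ne.symm hj)] at h3
          exact one_ne_zero h3⟩ x.2), map_one]
    · intro hi
      exact absurd (Finset.mem_univ i) hi
  · rw [MonoidHom.finsetProd_apply, MonoidHom.finsetProd_apply, ← Finset.prod_pow]
    refine Finset.prod_congr rfl fun j _ => ?_
    obtain ⟨v, hv, k, hk, rfl⟩ := exists_vx R j hu
    have hk' := D.mapX _ ⟨isRoot_sr cs h j, sr_nonneg j⟩ k hk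
    have hv' := D.mapSup (fun _ ha => ⟨ha.1, ha.2.1⟩) hv
    have e1 : (⟨v * k, hu⟩ : ↥(UU cs h X)) = ⟨v, V_le_U j hv⟩ * ⟨k, X_le_U j hk⟩ := rfl
    have e2 : (⟨d (v * k), D.mapU hu⟩ : ↥(UU cs h X)) = ⟨d v, V_le_U j hv'⟩ * ⟨d k, X_le_U j hk'⟩ :=
      Subtype.ext (map_mul d v k)
    rw [MonoidHom.comp_apply, MonoidHom.comp_apply, e1, e2, map_mul (π j), map_mul (π j), hπ2 j v hv, hπ2 j _ hv',
      hπ1 j k hk, hπ1 j _ hk', one_mul, one_mul, D.sq j _ k hk]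

/-- `χ ∘ d = σ ∘ χ` -/
theorem map_eq (hp : p.Prime) (hp2 : p ≠ 2) (hG : GG cs h T X = ⊤) (hc : ∀ a ∈ T, ∀ b ∈ T, a * b = b * a)
    {σ : ℂ ≃+* ℂ} (hσ : Sig σ) {lam : ↥T →* ℂˣ} (hl : ∀ t, σ (lam t : ℂˣ) = (lam t : ℂˣ))
    (hsq : ∀ w ∈ Wst R lam, w * w ∈ Rg R lam) {χ : Y → ℂ} (hχ : IsIrrCharacter Y χ)
    (hodd : ∃ m : ℕ, Odd m ∧ mB R lam χ = m) (g : Y) : χ (d g) = σ (χ g) := by
  obtain ⟨psi, h1, h2⟩ := D.exists_psi hp
  refine fix_of_mB R hMain hG hc (St.five cs h) (D.aut hl) hsq (Or.inr ⟨psi, h1, fun u hu => ?_⟩) hχ hodd g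
  rw [h2 u hu, Units.val_pow_eq_pow_val]
  refine (hσ.2 _ _ (odd_U R hp hp2) ?_).symm
  rw [← Units.val_pow_eq_pow_val, ← map_pow, pow_card_eq_one', map_one, Units.val_one]

/-- `χ ∘ d = σ ∘ χ` in the principal block -/
theorem map_eq_b0 (hp : p.Prime) (hp2 : p ≠ 2) (hG : GG cs h T X = ⊤) (hc : ∀ a ∈ T, ∀ b ∈ T, a * b = b * a)
    (hnf : H69.OQ.NoFix cs h T X)
    (H : ∀ lam : ↥T →* ℂˣ, Two2 lam → Odd (Wst R lam).index → ∀ w ∈ Wst R lam, w * w ∈ Rg R lam)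
    {σ : ℂ ≃+* ℂ} (hσ : Sig σ) {χ : Y → ℂ} (hχ : OddIrr χ) (hb : InB0 χ) (g : Y) : χ (d g) = σ (χ g) := by
  obtain ⟨lam, h1, h2, h3⟩ := exists_lam2 R hG hc hnf hχ hb
  exact D.map_eq hp hp2 hG hc hσ (h3.fix hσ) (H lam h3 h2) hχ.1 h1 g

/-- `χ ∘ d = χ` -/
theorem comp_eq (hG : GG cs h T X = ⊤) (hc : ∀ a ∈ T, ∀ b ∈ T, a * b = b * a) {lam : ↥T →* ℂˣ}
    (H : ∀ w g (hg : Rp cs R.nsys w g), Cj T lam lam g → lam ⟨g⁻¹ * d g, D.mapRp w hg⟩ = 1) {χ : Y → ℂ}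
    (hχ : IsIrrCharacter Y χ) (h0 : mB R lam χ ≠ 0) (g : Y) : χ (d g) = χ g := by
  have a : Aut R (RingEquiv.refl ℂ) d lam := D.aut fun _ => rfl
  have key : ∀ y ∈ Submodule.span ℂ (Set.range (dat R hG hc).t),
      AH.tw (RingEquiv.refl ℂ) d (H684.OQ.eB R lam * y * H684.OQ.eB R lam) =
        H684.OQ.eB R lam * y * H684.OQ.eB R lam := by
    intro y hy
    induction hy using Submodule.span_induction with
    | mem y hy =>
      obtain ⟨k, rfl⟩ := hy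
      have hk := rp_piN R k
      rw [dat_t]
      by_cases hC : Cj T lam lam k
      · have h1 := D.mapRp _ hk
        rw [map_mul, map_mul, a.eB, ta, map_mul, map_mul, a.eU, AH.tw_dl]
        change _ * ta cs h X (d k) * _ = _ * ta cs h X k * _
        have e : ta cs h X (d k) = ta cs h X (k * ((k : Y)⁻¹ * d k)) := by rw [mul_inv_cancel_left]
        rw [e, ta_mul_t R h1, ta_t R h1, mul_assoc, mul_assoc, mul_assoc, eU_mul_eB, t_mul_eB R lam h1, H _ _ hk hC,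
          Units.val_one, one_smul, mul_assoc]
      · have h1 : H684.OQ.eB R lam * ta cs h X k * H684.OQ.eB R lam = 0 := by
          rw [← cjl_eq_iff R hk] at hC
          obtain ⟨t, ht⟩ := DFunLike.ne_iff.1 hC
          have h2 := congrArg (H684.OQ.eB R lam * ·) (ta_t_eB R lam hk t.2)
          rw [ta_t_mul R t.2, ta_t R t.2, mul_assoc (dl (t : Y)), eU_mul_ta, ← mul_assoc, ← mul_assoc, eB_mul_t R lam t.2,
            smul_mul_assoc, smul_mul_assoc, mul_smul_comm, ← mul_assoc, ← sub_eq_zero, ← sub_smul] at h2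
          exact (smul_eq_zero.1 h2).resolve_left (sub_ne_zero.2 fun e => ht (Units.ext e.symm))
        rw [h1, map_zero]
    | zero => simp
    | add y z _ _ hy hz => rw [mul_add, add_mul, map_add, hy, hz]
    | smul c y _ hy => rw [mul_smul_comm, smul_mul_assoc, AH.tw_smul, hy, RingEquiv.refl_apply]
  refine congrFun (AH.eq_of_corner hχ (AH.isIrr_comp hχ d) (eB_mul_eB R lam) (by rwa [lin_eB]) fun x => ?_) g
  have h1 := key _ ((dat R hG hc).span x)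
  change AH.tw _ d (_ * (ta cs h X 1 * x * ta cs h X 1) * _) = _ * (ta cs h X 1 * x * ta cs h X 1) * _ at h1
  have e : H684.OQ.eB R lam * (ta cs h X 1 * x * ta cs h X 1) * H684.OQ.eB R lam =
      H684.OQ.eB R lam * x * H684.OQ.eB R lam := by
    rw [ta_one, mul_assoc, mul_assoc, eU_mul_eB, ← mul_assoc, ← mul_assoc, eB_mul_eU]
  rw [e] at h1
  have h2 := AH.lin_tw (RingEquiv.refl ℂ) d χ (H684.OQ.eB R lam * x * H684.OQ.eB R lam)
  rw [h1] at h2
  exact h2.symm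

end Diag

/-- **`FG` from a diagonal automorphism** -/
theorem fg_of_diag (hp : p.Prime) (hp2 : p ≠ 2) (hG : GG cs h T X = ⊤) (hc : ∀ a ∈ T, ∀ b ∈ T, a * b = b * a)
    (hnf : H69.OQ.NoFix cs h T X) {d : Y ≃* Y} (D : Diag R d)
    (H : ∀ lam : ↥T →* ℂˣ, Two2 lam → Odd (Wst R lam).index → (∀ w ∈ Wst R lam, w * w ∈ Rg R lam) ∧
      ∀ w g (hg : Rp cs R.nsys w g), Cj T lam lam g → lam ⟨g⁻¹ * d g, D.mapRp w hg⟩ = 1) : FG Y := by
  intro χ hχ hb σ hσ g
  obtain ⟨lam, ⟨m, hm, e⟩, h2, h3⟩ := exists_lam2 R hG hc hnf hχ hb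
  obtain ⟨h4, h5⟩ := H lam h3 h2
  exact (D.map_eq hp hp2 hG hc hσ (h3.fix hσ) h4 hχ.1 ⟨m, hm, e⟩ g).symm.trans
    (D.comp_eq hG hc h5 hχ.1 (by rw [e]; exact_mod_cast hm.pos.ne') g)

/-- the mixed form -/
theorem fg_of_or (hp : p.Prime) (hp2 : p ≠ 2) (hG : GG cs h T X = ⊤) (hc : ∀ a ∈ T, ∀ b ∈ T, a * b = b * a)
    (hnf : H69.OQ.NoFix cs h T X) {d : Y ≃* Y} (D : Diag R d)
    (H : ∀ lam : ↥T →* ℂˣ, Two2 lam → Odd (Wst R lam).index → Wst R lam ≤ Rg R lam ∨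
      ((∀ w ∈ Wst R lam, w * w ∈ Rg R lam) ∧
      ∀ w g (hg : Rp cs R.nsys w g), Cj T lam lam g → lam ⟨g⁻¹ * d g, D.mapRp w hg⟩ = 1)) : FG Y := by
  intro χ hχ hb σ hσ g
  obtain ⟨lam, ⟨m, hm, e⟩, h2, h3⟩ := exists_lam2 R hG hc hnf hχ hb
  rcases H lam h3 h2 with h4 | ⟨h4, h5⟩
  · exact (fix_of_mB R hMain hG hc (St.five cs h) (aut_refl R (h3.fix hσ)) (fun w hw => h4 (mul_mem hw hw)) (Or.inl h4)
      hχ.1 ⟨m, hm, e⟩ g).symm
  · exact (D.map_eq hp hp2 hG hc hσ (h3.fix hσ) h4 hχ.1 ⟨m, hm, e⟩ g).symm.trans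
      (D.comp_eq hG hc h5 hχ.1 (by rw [e]; exact_mod_cast hm.pos.ne') g)

theorem diag_conj (hc : ∀ a ∈ T, ∀ b ∈ T, a * b = b * a) {t : Y} (ht : t ∈ T)
    (hs : ∀ i (f : ↥(X (sr i)) →* ℂˣ) x (hx : x ∈ X (sr i)) (hx' : t * x * t⁻¹ ∈ X (sr i)),
      f ⟨t * x * t⁻¹, hx'⟩ = f ⟨x, hx⟩ ^ 2) : Diag R (MulAut.conj t) where
  fixT s hs := by rw [MulAut.conj_apply, hc t ht s hs, mul_inv_cancel_right]
  mapX a ha x hx := by
    rw [← R.tor _ ha.1 t ht]
    exact conj_mem_cj.2 hx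
  mapN i := by
    have h1 := mul_mem (conj_T' R (rp_simple cs R.nsys i) ht) (inv_mem ht)
    rw [MulAut.conj_apply]
    simpa only [mul_assoc] using h1
  sq := hs

/-- **`FG` if the diagonal automorphism is inner** -/
theorem fg_of_inner (hp : p.Prime) (hp2 : p ≠ 2) (hG : GG cs h T X = ⊤) (hc : ∀ a ∈ T, ∀ b ∈ T, a * b = b * a)
    (hnf : H69.OQ.NoFix cs h T X) {t : Y} (ht : t ∈ T)
    (hs : ∀ i (f : ↥(X (sr i)) →* ℂˣ) x (hx : x ∈ X (sr i)) (hx' : t * x * t⁻¹ ∈ X (sr i)),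
      f ⟨t * x * t⁻¹, hx'⟩ = f ⟨x, hx⟩ ^ 2)
    (H : ∀ lam : ↥T →* ℂˣ, Two2 lam → Odd (Wst R lam).index → ∀ w ∈ Wst R lam, w * w ∈ Rg R lam) : FG Y := by
  intro χ hχ hb σ hσ g
  exact ((diag_conj R hc ht hs).map_eq_b0 hp hp2 hG hc hnf H hσ hχ hb g).symm.trans
    (Core.isIrr_isClassFunction hχ.1 g t)

end Cfsg.Agent.GAL.Odd
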