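import Cfsg.Agent.GAL.Odd.Main
import Cfsg.Agent.GAL.TA.SU
import Cfsg.Agent.ODD.PS.C3Gal

/-!
# GAL: the box of the groups of Lie type in odd characteristic (helper2)
-/

set_option autoImplicit false

namespace Cfsg.Agent.GAL.Odd

/-- The box for the simple groups of Lie type in odd characteristic. -/
theorem boxOdd : BoxOdd := boxOdd_of Cfsg.Agent.ODD.PS.C3.c3g Cfsg.Agent.GAL.TA.psu

end Cfsg.Agent.GAL.Odd
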