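import Cfsg.Agent.GAL.Nrm.Box
import Cfsg.Agent.GAL.Ex.Tw
import Cfsg.Agent.GAL.TA.SL
import Cfsg.Agent.GAL.TO.Rows
import Cfsg.Agent.GAL.TR.Ree
import Cfsg.Agent.GAL.TS.Main

/-!
# `BoxOdd` from the two remaining rows (helper2)
-/

set_option autoImplicit false

namespace Cfsg.Agent.GAL.Odd

open Cfsg.Agent.GAL.Nrm

theorem boxOdd_of (hC : TS.C3G) (hU : RowP ODD.PsuO fun S _ => FG S) : BoxOdd :=
  OddSide.boxOdd
    { psl1 := TS.psl1_of fun _ _ _ _ _ _ _ _ hF hn e => TA.fg_psl hF hn e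
      psl3 := TS.psl3
      psp1 := TS.psp1_of hC
      psp3 := TS.psp3_of hC
      psu := hU
      podd := fun _ _ _ _ h => TO.fg_podd h
      plus := fun _ _ _ _ h => TO.fg_plus h
      minus := fun _ _ _ _ h => TO.fg_minus h
      g2 := fun _ _ _ _ h => Ex.fg_g2 h
      f4 := fun _ _ _ _ h => Ex.fg_f4 h
      e6 := fun _ _ _ _ h => Ex.fg_e6 h
      e7 := fun _ _ _ _ h => Ex.fg_e7 h
      e8 := fun _ _ _ _ h => Ex.fg_e8 h
      tw := fun _ _ _ _ h => Ex.fg_tw h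
      d4 := fun _ _ _ _ h => Ex.fg_d4 h
      ree := fun _ _ _ _ h => TR.moved_ree h }

end Cfsg.Agent.GAL.Odd
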